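import Groth.Agent.L02.PicEtale.Lifts
import Groth.Agent.L12.LineLift.System
import Groth.Agent.L20.DescLocus.RankBC
import Groth.Agent.L20.SmoothAt.Scheme
import Groth.Agent.L18.AmpleGG
import Groth.Agent.L08.Cube.Semicont

/-!
# Invertible modules lift along small extensions when the second cohomology of the closed fibre vanishes
-/

set_option autoImplicit false
set_option linter.style.haveILetI false
set_option linter.unusedSectionVars false
set_option backward.isDefEq.respectTransparency false

universe u

open CategoryTheory CategoryTheory.Limits AlgebraicGeometry TopologicalSpace Opposite IsLocalRing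

noncomputable section

namespace Groth.L02.PicSm

open Groth.L02.PicEtale

variable {X S : Scheme.{u}} (f : X ⟶ S)

theorem props_structureModule (Y : Scheme.{u}) {Z : Scheme.{u}} (t : Y ⟶ Z) [Flat t] :
    Coh.IsQCoh (Coh.structureModule Y) ∧ CohB1.IsFP (Coh.structureModule Y) ∧
      FlatMod.IsFlatOver t (Coh.structureModule Y) := by
  have h := Groth.L18.Ample.isInvertible_structureModule Y
  haveI := Groth.L21.Extend.isQCoh_of_isInvertible h
  exact ⟨inferInstance, Groth.L18.LFP.isFP_of_isFinLocFree _ (Groth.L16.Existence.isFinLocFree_of_isInvertible h),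
    Groth.L29.DC.RelTor.isFlatOver_of_isFlat t (Groth.L21.RR.isFlat_of_isInvertible h)⟩

/-- The locus where the second cohomology of the fibres vanishes is open. -/
theorem isOpen_fiberRank_eq_zero [IsLocallyNoetherian S] [IsProper f] [Flat f] :
    IsOpen {y : S | CohIII.fiberRank f (Coh.structureModule X) 2 y = 0} := by
  obtain ⟨h1, h2, h3⟩ := props_structureModule X f
  haveI : IsLocallyNoetherian X := LocallyOfFiniteType.isLocallyNoetherian f
  have hc : Coh.IsCoh (Coh.structureModule X) := ⟨h1, Groth.L18.Ample.isFT_of_isInvertible (Groth.L18.Ample.isInvertible_structureModule X)⟩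
  have h := Groth.L08.Cube.isClosed_not_fiberRank_lt f (Coh.structureModule X) hc h3 2 1
  have e : {y : S | CohIII.fiberRank f (Coh.structureModule X) 2 y = 0} =
      {y : S | ¬ CohIII.fiberRank f (Coh.structureModule X) 2 y < 1}ᶜ := by
    ext y
    simp
  rw [e]
  exact h.isOpen_compl

theorem fiberRank_eq_zero_of_subsingleton (s : S)
    (h2 : Subsingleton (Coh.HH (f.fiber s) (Coh.structureModule (f.fiber s)) 2)) :
    CohIII.fiberRank f (Coh.structureModule X) 2 s = 0 := by
  have h0 : Subsingleton (CohIII.fiberH f (Coh.structureModule X) s 2) :=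
    Groth.L22.EnrSev.subsingleton_of_iso (Groth.L29.LocFree.pullbackUnitIso (f.fiberι s)).symm 2 h2
  exact Module.finrank_zero_of_subsingleton

variable {C : Type u} [CommRing C] [IsLocalRing C] [IsNoetherianRing C] [IsProper f] [Flat f]

/-- The second cohomology of the closed fibre of a base change vanishes. -/
theorem subsingleton_closedFibre [LocallyOfFinitePresentation f] {X' : Scheme.{u}}
    {c : Spec (CommRingCat.of C) ⟶ S} {g : X' ⟶ X} {t : X' ⟶ Spec (CommRingCat.of C)} [IsProper t] [Flat t]
    [LocallyOfFinitePresentation t] (pb : IsPullback g t f c)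
    (h2 : CohIII.fiberRank f (Coh.structureModule X) 2 (c (closedPoint C)) = 0) :
    Subsingleton (Coh.HH (pullback t (Spec.map (CommRingCat.ofHom (residue C)))) (Coh.structureModule _) 2) := by
  obtain ⟨q1, q2, q3⟩ := props_structureModule X f
  haveI := q1
  let z : Spec (CommRingCat.of C) := closedPoint C
  have hr := Groth.L20.RankBC.fiberRank_baseChange q2 q3 pb z 2
  rw [h2] at hr
  have hinv := Groth.L18.Ample.isInvertible_pullback g (Groth.L18.Ample.isInvertible_structureModule X)
  haveI := Groth.L21.Extend.isQCoh_of_isInvertible hinv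
  have hs : Subsingleton (CohIII.fiberH t ((Scheme.Modules.pullback g).obj (Coh.structureModule X)) z 2) :=
    (Groth.L17.BC.subsingleton_iff_fiberRank_eq_zero t _
      (Groth.L18.LFP.isFP_of_isFinLocFree _ (Groth.L16.Existence.isFinLocFree_of_isInvertible hinv))
      (Groth.L29.DC.RelTor.isFlatOver_of_isFlat t (Groth.L21.RR.isFlat_of_isInvertible hinv)) z 2).2 hr
  have hs' : Subsingleton (Coh.HH (t.fiber z) (Coh.structureModule _) 2) :=
    Groth.L22.EnrSev.subsingleton_of_iso
      ((Scheme.Modules.pullback (t.fiberι z)).mapIso (Groth.L29.LocFree.pullbackUnitIso g) ≪≫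
        Groth.L29.LocFree.pullbackUnitIso (t.fiberι z)) 2 hs
  let q := Spec.map (CommRingCat.ofHom (residue C))
  haveI : IsClosedImmersion q := IsClosedImmersion.spec_of_surjective _ IsLocalRing.residue_surjective
  have hq : ∀ v, q v = z := fun v => by
    haveI : Subsingleton (Spec (CommRingCat.of (ResidueField C))) :=
      inferInstanceAs (Subsingleton (PrimeSpectrum (ResidueField C)))
    rw [Subsingleton.elim v (closedPoint (ResidueField C))]
    exact Groth.L20.SmoothAt.specMap_closedPoint (residue C) IsLocalRing.residue_surjective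
  obtain ⟨r, hr'⟩ : ∃ r : Spec (CommRingCat.of (ResidueField C)) ⟶ Spec ((Spec (CommRingCat.of C)).residueField z),
      r ≫ (Spec (CommRingCat.of C)).fromSpecResidueField z = q := by
    let x : Spec (CommRingCat.of C) := q (closedPoint (ResidueField C))
    have hx : x = z := hq _
    refine ⟨(Scheme.SpecToEquivOfField (ResidueField C) _ q).2 |> fun a =>
      Spec.map a ≫ Spec.map ((Spec (CommRingCat.of C)).residueFieldCongr hx.symm).hom, ?_⟩
    rw [Category.assoc, Scheme.residueFieldCongr_fromSpecResidueField]
    exact Scheme.descResidueField_stalkClosedPointTo_fromSpecResidueField (ResidueField C) _ q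
  haveI : IsClosedImmersion r := by
    haveI : IsClosedImmersion (r ≫ (Spec (CommRingCat.of C)).fromSpecResidueField z) := by
      rw [hr']; infer_instance
    exact IsClosedImmersion.of_comp r ((Spec (CommRingCat.of C)).fromSpecResidueField z)
  haveI : Surjective r := ⟨fun v => ⟨closedPoint (ResidueField C), Subsingleton.elim _ _⟩⟩
  haveI : IsIso r := isIso_of_isClosedImmersion_of_surjective _
  let σ : pullback t q ⟶ t.fiber z := pullback.map _ _ _ _ (𝟙 _) r (𝟙 _) (by simp) (by simp [hr'])
  haveI : IsIso σ := inferInstanceAs (IsIso (pullback.map _ _ _ _ _ _ _ _ _))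
  exact Groth.L16.Rees.ClosedFibre.subsingleton_HH_of_iso (inv σ) 2 hs'

/-- An invertible module on a small quotient lifts. -/
theorem exists_lift_module [IsLocallyNoetherian S] (c : Spec (CommRingCat.of C) ⟶ S) (J : Ideal C) (hJ : J ≠ ⊤)
    (hmJ : maximalIdeal C * J = ⊥)
    (h2 : CohIII.fiberRank f (Coh.structureModule X) 2 (c (closedPoint C)) = 0)
    (i : Over.mk (Spec.map (CommRingCat.ofHom (Ideal.Quotient.mk J)) ≫ c) ⟶ Over.mk c)
    (hi : i.left = Spec.map (CommRingCat.ofHom (Ideal.Quotient.mk J)))
    (L : (PicF.XT f (Over.mk (Spec.map (CommRingCat.ofHom (Ideal.Quotient.mk J)) ≫ c))).Modules)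
    (hL : PicF.IsInvertible L) :
    ∃ M : (PicF.XT f (Over.mk c)).Modules, PicF.IsInvertible M ∧
      Nonempty ((Scheme.Modules.pullback (PicF.XTmap f i)).obj M ≅ L) := by
  haveI : LocallyOfFinitePresentation f := inferInstance
  let W : Over S := Over.mk c
  let W₀ : Over S := Over.mk (Spec.map (CommRingCat.ofHom (Ideal.Quotient.mk J)) ≫ c)
  let t : PicF.XT f W ⟶ Spec (CommRingCat.of C) := PicF.XTproj f W
  haveI : IsProper t := MorphismProperty.pullback_snd _ _ inferInstance
  haveI : Flat t := MorphismProperty.pullback_snd _ _ inferInstance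
  haveI : LocallyOfFinitePresentation t := MorphismProperty.pullback_snd _ _ inferInstance
  let t₀ : PicF.XT f W₀ ⟶ Spec (CommRingCat.of (C ⧸ J)) := PicF.XTproj f W₀
  have sq : IsPullback (PicF.XTmap f i) t₀ t
      (Spec.map (CommRingCat.ofHom (algebraMap C (C ⧸ J)))) := by
    have h := isPullback_XTmap f i
    rw [hi] at h
    exact h
  have hle : J ≤ maximalIdeal C := IsLocalRing.le_maximalIdeal hJ
  have hth : MoreMor.IsThickening i.left := by
    rw [hi]
    refine ⟨IsClosedImmersion.spec_of_surjective _ Ideal.Quotient.mk_surjective, ⟨fun (p : PrimeSpectrum C) => ?_⟩⟩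
    have hsq : ∀ x ∈ J, x * x = 0 := fun x hx => by
      have : x * x ∈ (⊥ : Ideal C) := hmJ ▸ Ideal.mul_mem_mul (hle hx) hx
      exact this
    have hp : p ∈ Set.range (PrimeSpectrum.comap (Ideal.Quotient.mk J)) := by
      rw [range_comap_of_surjective _ _ Ideal.Quotient.mk_surjective, Ideal.mk_ker]
      exact fun x hx => p.isPrime.mem_of_pow_mem 2 (by rw [pow_two, hsq x hx]; exact p.asIdeal.zero_mem)
    exact hp
  have hth' := isThickening_XTmap (f := f) hth
  haveI := hth'.1; haveI := hth'.2
  let q := Spec.map (CommRingCat.ofHom (residue C))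
  haveI : IsClosedImmersion q := IsClosedImmersion.spec_of_surjective _ IsLocalRing.residue_surjective
  haveI : IsClosedImmersion (pullback.fst t q) := MorphismProperty.pullback_fst _ _ inferInstance
  haveI : (RingHom.ker (algebraMap C (ResidueField C))).IsMaximal := by
    rw [ResidueField.algebraMap_eq, IsLocalRing.ker_residue]; infer_instance
  obtain ⟨Sm⟩ := Groth.L12.LineLift.exists_small (A := C) (B := C ⧸ J) (k := ResidueField C)
    Ideal.Quotient.mk_surjective IsLocalRing.residue_surjective
    (by rw [ResidueField.algebraMap_eq, IsLocalRing.ker_residue, Ideal.Quotient.algebraMap_eq, Ideal.mk_ker, hmJ])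
    (by rw [ResidueField.algebraMap_eq, IsLocalRing.ker_residue, Ideal.Quotient.algebraMap_eq, Ideal.mk_ker]; exact hle)
    t t₀ (PicF.XTmap f i) sq (pullback.snd t q) (pullback.fst t q) (IsPullback.of_hasPullback t q)
  haveI : (PicF.XT f W).IsSeparated := ⟨by rw [← terminal.comp_from t]; infer_instance⟩
  obtain ⟨N, hN, e, he⟩ := Groth.L12.LineLift.exists_cover (PicF.XTmap f i) L hL
  have hNt : ∀ (k : ℕ) (a : Fin (k + 1) → PicF.XT f W), IsAffineOpen (⨅ j, N (a j)) :=
    fun k a => IsAffineOpen.iInf fun j => (hN _).2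
  exact Groth.L12.LineLift.exists_lift Sm.sqZero (fun a b => Groth.L12.LineLift.aff₂ N hNt a b)
    (fun x => ⟨x, (hN x).1⟩) (Sm.cob₂ N hNt (Groth.L12.LineLift.iSup_eq_top_of_mem fun x => (hN x).1)
      (subsingleton_closedFibre f (IsPullback.of_hasPullback f c) h2)) L e he

end Groth.L02.PicSm
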