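import Groth.Agent.L02.PicEtale.Lifts
import Groth.Agent.L02.PicSm.LiftSmall
import Mathlib.AlgebraicGeometry.Morphisms.Etale
import Mathlib.RingTheory.Unramified.LocalRing
import Mathlib.RingTheory.Etale.Basic
import Mathlib.RingTheory.Flat.FaithfullyFlat.Algebra
import Mathlib.RingTheory.Artinian.Ring
import Mathlib.RingTheory.RingHom.Etale

/-!
# Etale neighbourhoods of an artinian local scheme
-/

set_option autoImplicit false
set_option linter.style.haveILetI false
set_option linter.unusedSectionVars false
set_option backward.isDefEq.respectTransparency false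

universe u

open CategoryTheory CategoryTheory.Limits AlgebraicGeometry IsLocalRing

noncomputable section

namespace Groth.L02.PicSm

/-- An etale neighbourhood of the spectrum of an artinian local ring contains a local etale extension. -/
theorem exists_local_ext {B : Type u} [CommRing B] [IsLocalRing B] [IsArtinianRing B] {V : Scheme.{u}} [IsAffine V]
    (v : V ⟶ Spec (CommRingCat.of B)) [Etale v] (z : V) :
    ∃ (C : Type u) (_ : CommRing C) (_ : IsLocalRing C) (_ : IsNoetherianRing C) (j : B →+* C) (_ : IsLocalHom j)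
      (ρ : Spec (CommRingCat.of C) ⟶ V), ρ ≫ v = Spec.map (CommRingCat.ofHom j) ∧ Function.Injective j ∧
        maximalIdeal C = (maximalIdeal B).map j := by
  let j₁ : CommRingCat.of B ⟶ Γ(V, ⊤) := (Scheme.ΓSpecIso (CommRingCat.of B)).inv ≫ v.appTop
  have hj₁ : Spec.map j₁ = V.isoSpec.inv ≫ v := by
    rw [Spec.map_comp, ← Scheme.isoSpec_Spec_inv, Scheme.isoSpec_inv_naturality]
  haveI : Etale (Spec.map j₁) := by rw [hj₁]; infer_instance
  have het : j₁.hom.Etale := (HasRingHomProperty.Spec_iff (P := @Etale)).1 ‹_›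
  letI : Algebra B Γ(V, ⊤) := j₁.hom.toAlgebra
  haveI : Algebra.Etale B Γ(V, ⊤) := het
  haveI : IsNoetherianRing Γ(V, ⊤) := Algebra.FiniteType.isNoetherianRing B Γ(V, ⊤)
  let p : Ideal Γ(V, ⊤) := (show PrimeSpectrum Γ(V, ⊤) from V.isoSpec.hom z).asIdeal
  haveI : p.IsPrime := (show PrimeSpectrum Γ(V, ⊤) from V.isoSpec.hom z).isPrime
  let C := Localization.AtPrime p
  let j : B →+* C := algebraMap B C
  haveI : IsLocalHom j := by
    refine ((IsLocalRing.local_hom_TFAE j).out 0 4).2 ?_
    exact IsLocalRing.eq_maximalIdeal (IsArtinianRing.isMaximal_of_isPrime _)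
  haveI : IsNoetherianRing C := IsLocalization.isNoetherianRing p.primeCompl C inferInstance
  haveI : Algebra.FormallyEtale Γ(V, ⊤) C := Algebra.FormallyEtale.of_isLocalization p.primeCompl
  haveI : Algebra.FormallyUnramified B C := Algebra.FormallyUnramified.comp B Γ(V, ⊤) C
  haveI : Algebra.EssFiniteType Γ(V, ⊤) C := Algebra.EssFiniteType.of_isLocalization C p.primeCompl
  haveI : Algebra.EssFiniteType B C := Algebra.EssFiniteType.comp B Γ(V, ⊤) C
  haveI : Module.Flat Γ(V, ⊤) C := IsLocalization.flat C p.primeCompl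
  haveI : Module.Flat B C := Module.Flat.trans B Γ(V, ⊤) C
  haveI : IsLocalHom (algebraMap B C) := ‹IsLocalHom j›
  haveI : Module.FaithfullyFlat B C := Module.FaithfullyFlat.of_flat_of_isLocalHom
  refine ⟨C, inferInstance, inferInstance, inferInstance, j, inferInstance,
    Spec.map (CommRingCat.ofHom (algebraMap Γ(V, ⊤) C)) ≫ V.isoSpec.inv, ?_, ?_, ?_⟩
  · rw [Category.assoc, ← hj₁, ← Spec.map_comp]
    congr 1
  · exact FaithfulSMul.algebraMap_injective B C
  · exact Algebra.FormallyUnramified.map_maximalIdeal.symm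

end Groth.L02.PicSm
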