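import Groth.Agent.L02.PicSm.Algebra
import Groth.Agent.L02.PicSm.Local
import Groth.Agent.L20.SmoothAt.Scheme
import Groth.Agent.L20.SmoothAt.Global

/-!
# The relative Picard scheme is smooth where the second cohomology of the fibres vanishes
-/

set_option autoImplicit false
set_option linter.style.haveILetI false
set_option linter.unusedSectionVars false
set_option backward.isDefEq.respectTransparency false

universe u

open CategoryTheory CategoryTheory.Limits AlgebraicGeometry IsLocalRing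

noncomputable section

namespace Groth.L02.PicSm

open Groth.L02.PicEtale

variable {X S : Scheme.{u}} {f : X ⟶ S} [IsProper f] [Flat f] [IsLocallyNoetherian S]
  {P : Over S} [LocallyOfFiniteType P.hom] {φ : ∀ T : Over S, PicF.Cl (PicF.XT f T) → (T ⟶ P)}

/-- Points lift along small extensions after a local etale extension. -/
theorem exists_lift_local (hP : PicRel.IsRelPic f P φ) {B' B : Type u} [CommRing B'] [CommRing B] [IsLocalRing B']
    [IsLocalRing B] [IsArtinianRing B'] (π : B' →+* B) (hπ : Function.Surjective π) (t : B')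
    (hker : RingHom.ker π = Ideal.span {t}) (hm : ∀ a ∈ maximalIdeal B', a * t = 0)
    (β : Spec (CommRingCat.of B') ⟶ S) (a : Spec (CommRingCat.of B) ⟶ P.left)
    (ha : a ≫ P.hom = Spec.map (CommRingCat.ofHom π) ≫ β)
    (h2 : CohIII.fiberRank f (Coh.structureModule X) 2 (β (closedPoint B')) = 0) :
    ∃ (C : Type u) (_ : CommRing C) (_ : IsLocalRing C) (j : B' →+* C) (_ : IsLocalHom j)
      (j₀ : B →+* C ⧸ Ideal.span {j t}) (γ : Spec (CommRingCat.of C) ⟶ P.left),
      Function.Injective j ∧ j₀.comp π = (Ideal.Quotient.mk _).comp j ∧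
        γ ≫ P.hom = Spec.map (CommRingCat.ofHom j) ≫ β ∧
        Spec.map (CommRingCat.ofHom (Ideal.Quotient.mk (Ideal.span {j t}))) ≫ γ =
          Spec.map (CommRingCat.ofHom j₀) ≫ a := by
  let q := Spec.map (CommRingCat.ofHom π)
  let T : Over S := Over.mk β
  let T₀ : Over S := Over.mk (q ≫ β)
  let i : T₀ ⟶ T := Over.homMk q rfl
  let a' : T₀ ⟶ P := Over.homMk a ha
  have htm : t ∈ maximalIdeal B' := IsLocalRing.le_maximalIdeal (RingHom.ker_ne_top π)
    (hker ▸ Ideal.mem_span_singleton_self t)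
  haveI : IsClosedImmersion q := IsClosedImmersion.spec_of_surjective _ hπ
  haveI : Subsingleton (Spec (CommRingCat.of B')) :=
    ⟨fun (x y : PrimeSpectrum B') => PrimeSpectrum.ext
      ((IsLocalRing.eq_maximalIdeal (IsArtinianRing.isMaximal_of_isPrime x.asIdeal)).trans
        (IsLocalRing.eq_maximalIdeal (IsArtinianRing.isMaximal_of_isPrime y.asIdeal)).symm)⟩
  haveI : Surjective q := ⟨fun x => ⟨closedPoint B, Subsingleton.elim _ _⟩⟩
  have hi : MoreMor.IsThickening i.left := ⟨‹IsClosedImmersion q›, ‹Surjective q›⟩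
  obtain ⟨V₁, v₁, z₁, L, hv₁, -, hL, hφL⟩ := exists_class hP a' (closedPoint B)
  haveI := hv₁
  obtain ⟨V, v, z, hV, hv, -, h, hh⟩ := exists_nhd hi v₁ z₁
  haveI := hV
  haveI : Etale v.left := hv
  obtain ⟨C, _, _, _, j, _, ρ, hρ, hinj, hmax⟩ :=
    exists_local_ext (B := B') (V := V.left) v.left z
  let J : Ideal C := Ideal.span {j t}
  have hJle : J ≤ maximalIdeal C := by
    rw [Ideal.span_le, Set.singleton_subset_iff, SetLike.mem_coe, hmax]
    exact Ideal.mem_map_of_mem j htm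
  have hJ : J ≠ ⊤ := fun e => (maximalIdeal.isMaximal C).ne_top (top_unique (e ▸ hJle))
  have hmJ : maximalIdeal C * J = ⊥ := by
    rw [hmax, show J = (Ideal.span {t}).map j by rw [Ideal.map_span, Set.image_singleton], ← Ideal.map_mul,
      show maximalIdeal B' * Ideal.span {t} = ⊥ from ?_, Ideal.map_bot]
    rw [eq_bot_iff, Ideal.mul_le]
    intro b hb y hy
    obtain ⟨c, rfl⟩ := Ideal.mem_span_singleton'.1 hy
    rw [Ideal.mem_bot]
    linear_combination c * hm b hb
  have hk : RingHom.ker π ≤ RingHom.ker ((Ideal.Quotient.mk J).comp j) := fun b hb => by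
    rw [hker] at hb
    obtain ⟨c, rfl⟩ := Ideal.mem_span_singleton'.1 hb
    show Ideal.Quotient.mk J (j (c * t)) = 0
    rw [Ideal.Quotient.eq_zero_iff_mem, map_mul]
    exact Ideal.mul_mem_left _ _ (Ideal.mem_span_singleton_self _)
  let j₀ : B →+* C ⧸ J := π.liftOfSurjective hπ ⟨(Ideal.Quotient.mk J).comp j, hk⟩
  have hj₀ : j₀.comp π = (Ideal.Quotient.mk J).comp j := RingHom.liftOfSurjective_comp _ _ _
  let c : Spec (CommRingCat.of C) ⟶ S := Spec.map (CommRingCat.ofHom j) ≫ β
  let p := Spec.map (CommRingCat.ofHom (Ideal.Quotient.mk J))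
  let W : Over S := Over.mk c
  let W₀ : Over S := Over.mk (p ≫ c)
  let i' : W₀ ⟶ W := Over.homMk p rfl
  have hsq : (p ≫ ρ) ≫ v.left = Spec.map (CommRingCat.ofHom j₀) ≫ q := by
    rw [Category.assoc, hρ, ← Spec.map_comp, ← Spec.map_comp, ← CommRingCat.ofHom_comp, ← CommRingCat.ofHom_comp, hj₀]
  let c₀ : W₀ ⟶ pbObj i v := Over.homMk (pullback.lift (p ≫ ρ) (Spec.map (CommRingCat.ofHom j₀)) hsq) (by
    show pullback.lift _ _ hsq ≫ pullback.snd _ _ ≫ q ≫ β = p ≫ c
    rw [pullback.lift_snd_assoc, ← Category.assoc, ← hsq]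
    simp [c, reassoc_of% hρ])
  let L₀ := (Scheme.Modules.pullback (PicF.XTmap f (c₀ ≫ h))).obj L
  have hL₀ : PicF.IsInvertible L₀ := Groth.L02.PicEtale.isInvertible_pull _ hL
  have hc : c (closedPoint C) = β (closedPoint B') := by
    show β (Spec.map (CommRingCat.ofHom j) (closedPoint C)) = _
    rw [Subsingleton.elim (Spec.map (CommRingCat.ofHom j) (closedPoint C)) (closedPoint B')]
  obtain ⟨M, hM, ⟨e⟩⟩ := exists_lift_module f c J hJ hmJ (hc.symm ▸ h2) i' rfl L₀ hL₀
  refine ⟨C, inferInstance, inferInstance, j, inferInstance, j₀, (φ W (PicF.cl M)).left, hinj, hj₀,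
    Over.w (φ W (PicF.cl M)), ?_⟩
  have key : i' ≫ φ W (PicF.cl M) = c₀ ≫ pbπ i v ≫ a' := by
    rw [← natural' hP i' hM, show PicF.cl ((Scheme.Modules.pullback (PicF.XTmap f i')).obj M) = PicF.cl L₀ from
      Quot.sound ⟨e⟩, natural' hP _ hL, hφL, ← hh]
    simp
  have key' := congrArg CommaMorphism.left key
  refine key'.trans ?_
  show pullback.lift _ _ hsq ≫ pullback.snd _ _ ≫ a = _
  rw [pullback.lift_snd_assoc]

/-- The structure map of the relative Picard scheme is smooth at points over which `H²` of the fibre vanishes. -/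
theorem mem_smoothLocus [LocallyOfFinitePresentation P.hom] (hP : PicRel.IsRelPic f P φ) (x : P.left)
    (h2 : CohIII.fiberRank f (Coh.structureModule X) 2 (P.hom x) = 0) : x ∈ P.hom.smoothLocus := by
  obtain ⟨_, ⟨V, hV, rfl⟩, hxV, -⟩ :=
    S.isBasis_affineOpens.exists_subset_of_mem_open (Set.mem_univ (P.hom x)) isOpen_univ
  obtain ⟨_, ⟨U, hU, rfl⟩, hxU, e⟩ :=
    P.left.isBasis_affineOpens.exists_subset_of_mem_open (show x ∈ P.hom ⁻¹ᵁ V from hxV) (P.hom ⁻¹ᵁ V).isOpen
  replace hV : IsAffineOpen (V : S.Opens) := hV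
  replace hU : IsAffineOpen (U : P.left.Opens) := hU
  refine Groth.L20.SmoothAt.mem_smoothLocus_of_small P.hom hV hU e hxU ?_
  intro B' B _ _ _ _ _ _ π hπ ⟨t, hker, hm⟩ g ψ hc hg _ _
  let β := Spec.map (CommRingCat.ofHom ψ) ≫ hV.fromSpec
  let a := Spec.map (CommRingCat.ofHom g) ≫ hU.fromSpec
  have hax : a (closedPoint B) = x := (Groth.L20.SmoothAt.specMap_fromSpec_closedPoint_iff hU hxU g).2 hg
  have ha : a ≫ P.hom = Spec.map (CommRingCat.ofHom π) ≫ β :=
    (Groth.L20.SmoothAt.specMap_square P.hom hU hV e π hc).symm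
  have hb : β (closedPoint B') = P.hom x := by
    have h' : (a ≫ P.hom) (closedPoint B) = (Spec.map (CommRingCat.ofHom π) ≫ β) (closedPoint B) := by rw [ha]
    rw [← Groth.L20.SmoothAt.specMap_closedPoint π hπ, ← hax]
    exact h'.symm
  obtain ⟨C, _, _, j, _, j₀, γ, hinj, hj₀, hγ, hγ₀⟩ := exists_lift_local hP π hπ t hker hm β a ha (hb.symm ▸ h2)
  let J : Ideal C := Ideal.span {j t}
  have hγU : γ (closedPoint C) ∈ U := by
    haveI : Nontrivial (C ⧸ J) := Ideal.Quotient.nontrivial_iff.2 fun h => by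
      have htm : t ∈ maximalIdeal B' := IsLocalRing.le_maximalIdeal (RingHom.ker_ne_top π)
        (hker ▸ Ideal.mem_span_singleton_self t)
      exact (IsLocalRing.mem_maximalIdeal _).1 htm ((isUnit_map_iff j t).1 (Ideal.span_singleton_eq_top.1 h))
    haveI : IsLocalRing (C ⧸ J) := IsLocalRing.of_surjective' _ Ideal.Quotient.mk_surjective
    rw [← Groth.L20.SmoothAt.specMap_closedPoint (Ideal.Quotient.mk J) Ideal.Quotient.mk_surjective,
      ← Scheme.Hom.comp_apply, hγ₀]
    have hr := hU.range_fromSpec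
    show (Spec.map (CommRingCat.ofHom j₀) ≫ Spec.map (CommRingCat.ofHom g) ≫ hU.fromSpec) _ ∈ U
    rw [← Category.assoc, Scheme.Hom.comp_apply]
    exact hr.le (Set.mem_range_self _)
  obtain ⟨g'', hg''⟩ := Groth.L20.SmoothAt.exists_eq_specMap_fromSpec hU γ hγU
  letI := (P.hom.appLE V U e).hom.toAlgebra
  haveI : Algebra.FiniteType Γ(S, V) Γ(P.left, U) := LocallyOfFiniteType.finiteType_appLE (f := P.hom) hV hU e
  have h₁ : g''.comp (P.hom.appLE V U e).hom = j.comp ψ := Groth.L20.SmoothAt.eq_of_specMap_fromSpec hV (by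
    rw [CommRingCat.ofHom_comp, Spec.map_comp, Category.assoc, CommRingCat.ofHom_hom,
      IsAffineOpen.SpecMap_appLE_fromSpec P.hom hV hU e, ← Category.assoc, hg'', hγ, CommRingCat.ofHom_comp,
      Spec.map_comp, Category.assoc])
  have h₂ : (Ideal.Quotient.mk J).comp g'' = j₀.comp g := Groth.L20.SmoothAt.eq_of_specMap_fromSpec hU (by
    rw [CommRingCat.ofHom_comp, Spec.map_comp, Category.assoc, hg'', hγ₀, CommRingCat.ofHom_comp, Spec.map_comp,
      Category.assoc])
  obtain ⟨g', hg₁, hg₂⟩ := exists_lift_of_ext ψ π hπ t hker hm j hinj g hc g'' h₁ fun y b hyb => by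
    rw [← Ideal.Quotient.eq]
    exact (RingHom.congr_fun h₂ y).trans ((congrArg j₀ hyb.symm).trans (RingHom.congr_fun hj₀ b))
  refine ⟨Spec.map (CommRingCat.ofHom g') ≫ hU.fromSpec, ?_, ?_⟩
  · rw [← Category.assoc, ← Spec.map_comp, ← CommRingCat.ofHom_comp, hg₁]
  · rw [Category.assoc, ← IsAffineOpen.SpecMap_appLE_fromSpec P.hom hV hU e, ← Category.assoc, ← Spec.map_comp]
    congr 2
    exact CommRingCat.hom_ext hg₂

/-- Smoothness over a neighbourhood of a point with vanishing `H²`. -/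
theorem exists_smooth_nhd (hP : PicRel.IsRelPic f P φ) (s : S)
    (h2 : Subsingleton (Coh.HH (f.fiber s) (Coh.structureModule (f.fiber s)) 2)) :
    ∃ U : S.Opens, s ∈ U ∧ Smooth ((P.hom ⁻¹ᵁ U).ι ≫ P.hom) := by
  haveI : LocallyOfFinitePresentation P.hom := inferInstance
  refine ⟨⟨_, isOpen_fiberRank_eq_zero f⟩, fiberRank_eq_zero_of_subsingleton f s h2, ?_⟩
  rw [← Scheme.Hom.smoothLocus_eq_top_iff, ← Scheme.Hom.preimage_smoothLocus_eq, ← top_le_iff]
  exact fun y _ => mem_smoothLocus hP _ y.2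

end Groth.L02.PicSm
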